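import Mathlib
import Cfsg.Agent.H23.SameOrd3
import Cfsg.Agent.FGS.SylowNum
import Cfsg.Agent.Core.SylowOf

/-!
# Counting elements of a given order: Sylow tools
-/

set_option autoImplicit false

namespace Cfsg.Agent.Nse

open Subgroup Finset H23.SameOrd H23.SameOrd3 H23.Kul
open scoped Pointwise

variable {G : Type*} [Group G] [Finite G] {p m : ℕ}

omit [Finite G] in
theorem s_sub (H : Subgroup G) (m : ℕ) : s H m = {a : G | orderOf a = m ∧ a ∈ H}.ncard := by
  rw [show s H m = {x : H | orderOf x = m}.ncard from rfl,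
    ← Set.ncard_image_of_injective _ H.subtype_injective]
  congr 1
  ext a
  exact ⟨by rintro ⟨x, hx, rfl⟩; exact ⟨by simpa using hx, x.2⟩,
    fun h => ⟨⟨a, h.2⟩, by simpa using h.1, rfl⟩⟩

theorem exists_of_ne (h : s G m ≠ 0) : ∃ g : G, orderOf g = m := by
  by_contra hh; exact h (s_eq_zero hh)

theorem zero_of_dvd {d : ℕ} (h : s G d = 0) (hd : d ∣ m) : s G m = 0 := by
  by_contra hh
  obtain ⟨g, rfl⟩ := exists_of_ne hh
  exact s_ne_zero (exists_of_dvd hd) h

theorem dvd_card (h : s G m ≠ 0) : m ∣ Nat.card G := by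
  obtain ⟨g, rfl⟩ := exists_of_ne h
  exact orderOf_dvd_natCard g

theorem sum_eq (hm : m ≠ 0) : ∑ d ∈ m.divisors, s G d = {g : G | g ^ m = 1}.ncard := by
  classical
  haveI := Fintype.ofFinite G
  have e := sum_card_orderOf_eq_card_pow_eq_one (G := G) hm
  simp only [s, Nat.card_eq_fintype_card, Fintype.card_subtype]
  rw [e, ← Set.ncard_coe_finset]
  congr 1; ext; simp

theorem card_eq_sum (hm : m ≠ 0) (h : ∀ d, s G d ≠ 0 → d ∣ m) :
    Nat.card G = ∑ d ∈ m.divisors, s G d := by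
  rw [sum_eq hm, ← Set.ncard_univ]
  congr 1
  ext g
  simpa using orderOf_dvd_iff_pow_eq_one.1 (h _ (s_ne_zero ⟨g, rfl⟩))

theorem sum_le (S : Finset ℕ) : ∑ d ∈ S, s G d ≤ Nat.card G := by
  classical
  rw [card_eq_sum Nat.card_pos.ne' fun d => dvd_card, ← sum_filter_ne_zero S]
  exact sum_le_sum_of_subset fun d hd =>
    Nat.mem_divisors.2 ⟨dvd_card (mem_filter.1 hd).2, Nat.card_pos.ne'⟩

theorem modEq_sum (T : Finset ℕ) {k : ℕ} (h : ∀ d, d ∉ T → k ∣ s G d) :
    Nat.card G ≡ ∑ d ∈ T, s G d [MOD k] := by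
  classical
  have h1 : ∑ d ∈ T ∪ (Nat.card G).divisors, s G d = Nat.card G := le_antisymm (sum_le _) (by
    conv_lhs => rw [card_eq_sum Nat.card_pos.ne' fun d => dvd_card (G := G)]
    exact sum_le_sum_of_subset subset_union_right)
  rw [← h1, ← sum_sdiff (subset_union_left (s₂ := (Nat.card G).divisors))]
  conv_rhs => rw [← zero_add (∑ d ∈ T, s G d)]
  exact Nat.ModEq.add_right _ ((Nat.modEq_zero_iff_dvd).2
    (dvd_sum fun d hd => h d (mem_sdiff.1 hd).2))

theorem sylow_mul [Fact p.Prime] (P : Sylow p G) (hm : Nat.card P ∣ m) :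
    s G m = Nat.card (Sylow p G) * s (centralizer (P : Set G)) m := by
  rw [show s G m = {x : G | orderOf x = m}.ncard from rfl,
    ncard_eq_sum _ (Set.univ : Set (Sylow p G)) (fun y Q => y ∈ centralizer (Q : Set G)),
    sum_eq_mul _ _ (s (centralizer (P : Set G)) m), Set.ncard_univ]
  · intro Q _
    obtain ⟨g, rfl⟩ := MulAction.exists_smul_eq G P Q
    rw [s_sub, ← Set.ncard_image_of_injective _ (MulAut.conj g⁻¹).injective]
    congr 1
    ext a
    constructor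
    · rintro ⟨y, ⟨h1, h2⟩, rfl⟩
      refine ⟨by rw [MulEquiv.orderOf_eq]; exact h1, fun z hz => ?_⟩
      have := h2 (g * z * g⁻¹) (smul_mem_pointwise_smul z (MulAut.conj g) P hz)
      calc z * MulAut.conj g⁻¹ y = g⁻¹ * (g * z * g⁻¹ * y) * g := by simp; group
        _ = _ := by rw [this]; simp; group
    · rintro ⟨h1, h2⟩
      refine ⟨g * a * g⁻¹, ⟨((MulAut.conj g).orderOf_eq a).trans h1, ?_⟩,
        by simp; group⟩
      rintro _ ⟨z, hz, rfl⟩
      change g * z * g⁻¹ * (g * a * g⁻¹) = g * a * g⁻¹ * (g * z * g⁻¹)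
      calc _ = g * (z * a) * g⁻¹ := by group
        _ = _ := by rw [h2 z hz]; group
  · intro y hy
    have h1 : Nat.card (zpowers (y ^ (orderOf y / Nat.card P))) = p ^ (Nat.card G).factorization p := by
      rw [Nat.card_zpowers, orderOf_pow_orderOf_div (orderOf_pos y).ne' (hy ▸ hm),
        P.card_eq_multiplicity]
    refine ⟨Sylow.ofCard _ h1, ⟨trivial, ?_⟩, fun Q hQ => ?_⟩
    · rintro _ ⟨k, rfl⟩
      exact (((Commute.refl y).pow_left _).zpow_left k).eq
    · refine Sylow.ext ((Sylow.ofCard _ h1).is_maximal' Q.isPGroup' ?_)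
      have h2 := (Sylow.ofCard _ h1).isPGroup'.inf_normalizer_sylow Q
      exact (le_inf le_rfl ((zpowers_le.2 (pow_mem hQ.2 _)).trans
        (centralizer_le_normalizer _))).trans (h2.le.trans inf_le_right)

theorem sum_le_sylow [Fact p.Prime] (P : Sylow p G) :
    ∑ d ∈ (Nat.card P).divisors, s G d ≤ Nat.card (Sylow p G) * Nat.card P := by
  classical
  rw [sum_eq Nat.card_pos.ne']
  have hex : ∀ x : {g : G | g ^ Nat.card P = 1}, ∃ Q : Sylow p G, x.1 ∈ Q := fun x => by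
    obtain ⟨Q, hQ⟩ := IsPGroup.exists_le_sylow (p := p) (P := zpowers x.1) (IsPGroup.of_card_dvd_pow (by
      rw [Nat.card_zpowers, ← P.card_eq_multiplicity]; exact orderOf_dvd_of_pow_eq_one x.2))
    exact ⟨Q, hQ (mem_zpowers _)⟩
  choose f hf using hex
  have e : ∀ Q : Sylow p G, Q ≃ P := fun Q => (Q.equiv P).toEquiv
  rw [← Nat.card_prod, ← Nat.card_coe_set_eq]
  refine Nat.card_le_card_of_injective (fun x => (f x, e (f x) ⟨x.1, hf x⟩)) fun x y h => ?_
  obtain ⟨h1, h2⟩ := Prod.ext_iff.1 h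
  have : ∀ (Q R : Sylow p G) (_ : Q = R) (a : Q) (b : R), e Q a = e R b → (a : G) = b := by
    rintro Q _ rfl a b h
    rw [(e Q).injective h]
  exact Subtype.ext (this _ _ h1 _ _ h2)

theorem card_sylow [Fact p.Prime] (P : Sylow p G) {k : ℕ} (h1 : p ^ k ∣ Nat.card G)
    (h2 : ¬ p ^ (k + 1) ∣ Nat.card G) : Nat.card P = p ^ k := by
  have hp : p.Prime := Fact.out
  rw [P.card_eq_multiplicity]
  rw [hp.pow_dvd_iff_le_factorization Nat.card_pos.ne'] at h1 h2
  congr 1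
  omega

theorem sylow_pow (hp : p.Prime) {k : ℕ} (h1 : p ^ k ∣ Nat.card G) (h2 : ¬ p ^ (k + 1) ∣ Nat.card G) :
    ∃ n, n % p = 1 % p ∧ n * p ^ k ∣ Nat.card G ∧ (∀ m, p ^ k ∣ m → n * m.totient ∣ s G m) ∧
      ∑ d ∈ (p ^ k).divisors, s G d ≤ n * p ^ k := by
  have := Fact.mk hp
  obtain ⟨P⟩ : Nonempty (Sylow p G) := inferInstance
  have e := card_sylow P h1 h2
  refine ⟨_, card_sylow_modEq_one p G, ?_, fun m hm => ?_, e ▸ sum_le_sylow P⟩
  · rw [← e, ← P.1.index_mul_card]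
    exact Nat.mul_dvd_mul_right P.card_dvd_index _
  · rw [sylow_mul P (e ▸ hm)]
    exact Nat.mul_dvd_mul_left _ (tot_dvd m)

theorem s_mul_ne_zero {q : ℕ} (hc : p.Coprime q) {x y : G} (hx : orderOf x = p) (hy : orderOf y = q)
    (h : Commute x y) : s G (p * q) ≠ 0 :=
  s_ne_zero ⟨x * y, by rw [h.orderOf_mul_eq_mul_orderOf_of_coprime (by rwa [hx, hy]), hx, hy]⟩

theorem sylow_prime (hp : p.Prime) (h1 : p ∣ Nat.card G) (h2 : ¬ p ^ 2 ∣ Nat.card G) :
    ∃ n, n * p ∣ Nat.card G ∧ (∀ m, p ∣ m → n * m.totient ∣ s G m) ∧ 1 + s G p ≤ n * p ∧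
      ((∀ q, q.Prime → q ≠ p → s G (p * q) = 0) → Nat.card G ∣ n * ((p - 1) * p)) := by
  have := Fact.mk hp
  obtain ⟨P⟩ : Nonempty (Sylow p G) := inferInstance
  have e := (card_sylow (k := 1) P (by rwa [pow_one]) h2).trans (pow_one p)
  refine ⟨Nat.card (Sylow p G), ?_, fun m hm => ?_, ?_, fun h => ?_⟩
  · rw [← P.1.index_mul_card, e]
    exact Nat.mul_dvd_mul_right P.card_dvd_index _
  · rw [sylow_mul P (e.dvd.trans hm)]
    exact Nat.mul_dvd_mul_left _ (tot_dvd m)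
  · have := sum_le_sylow P
    rwa [e, hp.sum_divisors, s_one, add_comm] at this
  · have h3 : Nat.card (centralizer (P : Set G)) ∣ p := by
      rw [← Nat.factorization_prime_le_iff_dvd Nat.card_pos.ne' hp.ne_zero]
      intro q hq
      by_cases hqp : q = p
      · subst hqp
        rw [hp.factorization_self, ← Nat.lt_succ_iff, ← not_le,
          ← hp.pow_dvd_iff_le_factorization Nat.card_pos.ne']
        exact fun h => h2 (h.trans (card_subgroup_dvd_card _))
      · rw [Nat.factorization_eq_zero_of_not_dvd fun hd => ?_]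
        · exact Nat.zero_le _
        obtain ⟨y, hy⟩ := cauchy hq hd
        obtain ⟨x, hx⟩ := cauchy hp e.symm.dvd
        exact s_mul_ne_zero ((Nat.coprime_primes hp hq).2 (Ne.symm hqp)) ((orderOf_coe x).trans hx)
          ((orderOf_coe y).trans hy) (y.2 x x.2) (h q hq hqp)
    have h4 := FGS.relIndex_centralizer_normalizer_dvd P.1
    rw [FGS.card_mulAut_of_prime (by rwa [e]), e] at h4
    rw [P.card_eq_index_normalizer, ← (normalizer (P : Set G)).index_mul_card,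
      ← Core.card_mul_relIndex (centralizer_le_normalizer (P : Set G)), mul_comm (p - 1)]
    exact Nat.mul_dvd_mul_left _ (Nat.mul_dvd_mul h3 h4)

theorem dvd_of {d a b c : ℕ} (hd : d ≠ 0) (hp : ∀ p, p.Prime → p ∣ d → p = 2 ∨ p = 3 ∨ p = 5)
    (h2 : ¬ 2 ^ (a + 1) ∣ d) (h3 : ¬ 3 ^ (b + 1) ∣ d) (h5 : ¬ 5 ^ (c + 1) ∣ d) :
    d ∣ 2 ^ a * 3 ^ b * 5 ^ c := by
  refine (Nat.dvd_iff_prime_pow_dvd_dvd _ _).2 fun p k hp' h => ?_
  rcases k with _ | k
  · simp
  have key : ∀ e, ¬ p ^ (e + 1) ∣ d → p ^ (k + 1) ∣ p ^ e := fun e he =>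
    pow_dvd_pow p (by by_contra h'; exact he ((pow_dvd_pow p (by omega)).trans h))
  rcases hp p hp' ((dvd_pow_self p k.succ_ne_zero).trans h) with rfl | rfl | rfl
  · exact (key a h2).trans ((dvd_mul_right _ _).trans (dvd_mul_right _ _))
  · exact (key b h3).trans ((dvd_mul_left _ _).trans (dvd_mul_right _ _))
  · exact (key c h5).trans (dvd_mul_left _ _)

theorem normal_eq_bot (hp : ∀ p, p.Prime → p ∣ Nat.card G → p = 2 ∨ p = 3 ∨ p = 5)
    (h2 : ¬ 2 ^ 4 ∣ Nat.card G) (h3 : ¬ 3 ^ 4 ∣ Nat.card G) (h5 : s G 5 ≠ 0) (h10 : s G 10 = 0)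
    (h15 : s G 15 = 0) (K : Subgroup G) [K.Normal] (hK : ¬ 5 ∣ Nat.card K) : K = ⊥ := by
  obtain ⟨x, hx⟩ := exists_of_ne h5
  have := Fact.mk Nat.prime_five
  by_contra hne
  obtain ⟨q, hq, hd⟩ := Nat.exists_prime_and_dvd ((one_lt_card_iff_ne_bot K).2 hne).ne'
  have := Fact.mk hq
  obtain ⟨Q, hQ, hn⟩ := Core.exists_invariant_isSylowOf (zpowers x) K le_normalizer_of_normal
    (by rw [Nat.card_zpowers, hx]; exact (Nat.prime_five.coprime_iff_not_dvd).2 hK)
    (Or.inl inferInstance) q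
  have h1 := Transfer.card_modEq_card_inf_centralizer (q := 5)
    (IsPGroup.of_card (n := 1) (by rw [Nat.card_zpowers, hx, pow_one])) hn
  have hq5 : q ≠ 5 := by rintro rfl; exact hK hd
  have h4 : Q ⊓ centralizer (zpowers x : Set G) = ⊥ := by
    by_contra h
    obtain ⟨y, hy⟩ := cauchy hq (Core.prime_dvd_card_of_isPGroup (hQ.2.1.to_le inf_le_left) h)
    refine s_mul_ne_zero ((Nat.coprime_primes Nat.prime_five hq).2 hq5.symm) hx
      ((orderOf_coe y).trans hy) (y.2.2 x (mem_zpowers x)) ?_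
    rcases hp q hq (hd.trans (card_subgroup_dvd_card K)) with rfl | rfl | rfl <;> simp_all
  obtain ⟨k, hk⟩ := hQ.2.1.exists_card_eq
  have h6 : q ^ k ∣ Nat.card G := hk ▸ card_subgroup_dvd_card Q
  have h7 : k ≠ 0 := by
    rintro rfl
    refine hQ.2.2 ?_
    rwa [card_eq_one.1 (hk.trans (pow_zero q)), relIndex_bot_left]
  have h8 : k < 4 := by
    by_contra h
    have := (pow_dvd_pow q (not_lt.1 h)).trans h6
    rcases hp q hq (hd.trans (card_subgroup_dvd_card K)) with rfl | rfl | rfl <;> simp_all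
  rw [h4, card_bot, hk] at h1
  rcases hp q hq (hd.trans (card_subgroup_dvd_card K)) with rfl | rfl | rfl
  · interval_cases k <;> simp_all [Nat.ModEq]
  · interval_cases k <;> simp_all [Nat.ModEq]
  · exact hq5 rfl

omit [Finite G] in
theorem s_normal (K : Subgroup G) [K.Normal] (h : m.Coprime K.index) : s K m = s G m := by
  rw [s_sub, show s G m = {x : G | orderOf x = m}.ncard from rfl]
  congr 1
  ext a
  exact and_iff_left_of_imp fun ha =>
    Core.mem_of_pow_mem_of_coprime (K.pow_index_mem a) (ha ▸ h.symm)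

theorem simple_of {n : ℕ} (hp : ∀ p, p.Prime → p ∣ Nat.card G → p = 2 ∨ p = 3 ∨ p = 5)
    (h2 : ¬ 2 ^ 4 ∣ Nat.card G) (h3 : ¬ 3 ^ 4 ∣ Nat.card G) (h25 : ¬ 5 ^ 2 ∣ Nat.card G)
    (hN : Nat.card G = 10 * n) (h5 : s G 5 = n * 4) (hn : 0 < n) (h10 : s G 10 = 0)
    (h15 : s G 15 = 0) (hs : n < s G 3) : IsSimpleGroup G := by
  have : Nontrivial G := Finite.one_lt_card_iff_nontrivial.1 (by omega)
  refine ⟨fun K hK => ?_⟩
  by_cases h : 5 ∣ Nat.card K
  swap
  · exact Or.inl (normal_eq_bot hp h2 h3 (by omega) h10 h15 K h)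
  right
  have e := K.card_mul_index
  have h4 := s_normal K (m := 5) (Nat.prime_five.coprime_iff_not_dvd.2 fun h' =>
    h25 (e ▸ pow_two 5 ▸ Nat.mul_dvd_mul h h'))
  obtain ⟨n', g1, g2, g3, -⟩ := sylow_prime Nat.prime_five h
    fun h' => h25 (h'.trans (card_subgroup_dvd_card K))
  have g4 := g2 5 dvd_rfl
  rw [h4, h5, show Nat.totient 5 = 4 from rfl, Nat.mul_dvd_mul_iff_right (by norm_num)] at g4
  rw [h4, h5] at g3
  obtain ⟨t, rfl⟩ := g4
  obtain rfl : t = 1 := by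
    rcases t with _ | _ | t
    · omega
    · rfl
    · nlinarith
  obtain ⟨u, hu⟩ := g1
  rw [hN, hu, mul_one] at e
  have h6 : u * K.index = 2 := Nat.eq_of_mul_eq_mul_left (show 0 < n' * 5 by omega) (by
    rw [← mul_assoc, e]; ring)
  rcases (Nat.dvd_prime Nat.prime_two).1 (Dvd.intro_left u h6) with h7 | h7
  · exact index_eq_one.1 h7
  · have h8 := sum_le (G := K) {1, 3, 5}
    rw [sum_insert (by simp), sum_pair (by simp), s_one, h4, s_normal K (by rw [h7]; norm_num)] at h8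
    rw [h7] at h6
    obtain rfl : u = 1 := by omega
    omega

end Cfsg.Agent.Nse
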