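import Mathlib
import Cfsg.Agent.Nse.A
import Cfsg.Agent.S0228
import Cfsg.Agent.S0494
import Cfsg.Agent.S0497

/-!
# Recognition of small alternating groups by the numbers of elements of each order
-/

set_option autoImplicit false

namespace Cfsg.Agent.Nse

open Subgroup Finset H23.SameOrd H23.SameOrd3 H23.Kul

variable {G : Type*} [Group G] [Finite G] {p m : ℕ}

theorem s_zero : s G 0 = 0 := s_eq_zero fun ⟨g, hg⟩ => (orderOf_pos g).ne' hg

theorem two_dvd (hm : 3 ≤ m) : 2 ∣ s G m := (Nat.totient_even hm).two_dvd.trans (tot_dvd m)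

theorem eq_two {v : ℕ} (h : ∃ m, s G m = v) (h1 : v ≠ 1) (h2 : ¬ 2 ∣ v) : s G 2 = v := by
  obtain ⟨m, rfl⟩ := h
  rcases m with _ | _ | _ | m
  · rw [s_zero] at h2; simp at h2
  · exact absurd s_one h1
  · rfl
  · exact absurd (two_dvd (by omega)) h2

theorem three_le' {v : ℕ} (h : s G m = v) (h0 : v ≠ 0) (h1 : v ≠ 1) (h2 : s G 2 ≠ v) : 3 ≤ m := by
  rcases m with _ | _ | _ | m
  · exact absurd (h.symm.trans s_zero) h0
  · exact absurd (h.symm.trans s_one) h1
  · exact absurd h h2
  · omega

theorem tot (m t : ℕ) (h : m.totient = t := by decide) : t ∣ s G m := h ▸ tot_dvd m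

theorem prime_data (hp : p.Prime) (hd : p ∣ Nat.card G) :
    s G p ≠ 0 ∧ p ∣ s G p + 1 ∧ p - 1 ∣ s G p :=
  ⟨s_ne_zero (cauchy hp hd), dvd_one hp hd, Nat.totient_prime hp ▸ tot_dvd p⟩

theorem prime_eq {a b : ℕ} (hp : p.Prime) (h : p ∣ a * b) (ha : a.Prime := by norm_num)
    (hb : b.Prime := by norm_num) : p = a ∨ p = b :=
  ((Nat.Prime.dvd_mul hp).1 h).imp (Nat.prime_dvd_prime_iff_eq hp ha).1
    (Nat.prime_dvd_prime_iff_eq hp hb).1

theorem alt4 (hs : ∀ m, s G m = 0 ∨ s G m = 1 ∨ s G m = 3 ∨ s G m = 8) (h3 : ∃ m, s G m = 3)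
    (h8 : ∃ m, s G m = 8) : Nonempty (G ≃* alternatingGroup (Fin 4)) := by
  have s2 := eq_two h3 (by norm_num) (by norm_num)
  have hs' : ∀ m, 3 ≤ m → s G m = 0 ∨ s G m = 8 := fun m hm => by
    have := hs m; have := s_ne_one (G := G) hm; have := two_dvd (G := G) hm; omega
  have hp : ∀ p, p.Prime → p ∣ Nat.card G → p = 2 ∨ p = 3 := fun p hp hd => by
    obtain ⟨g1, g2, -⟩ := prime_data hp hd
    rcases hp.eq_two_or_odd' with rfl | h
    · exact Or.inl rfl
    rw [(hs' p (by have := hp.two_le; obtain ⟨k, rfl⟩ := h; omega)).resolve_left g1] at g2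
    exact Or.inr (or_self_iff.1 (prime_eq (a := 3) (b := 3) hp g2))
  have s9 : s G 9 = 0 := by have := hs' 9 (by norm_num); have := tot (G := G) 9 6; omega
  have hN := modEq_sum (G := G) {1, 2} (k := 8) fun d hd => by
    rcases d with _ | d
    · simp [s_zero]
    have := hs' (d + 1) (by simp at hd; omega)
    omega
  rw [sum_pair (by norm_num), s_one, s2, Nat.ModEq] at hN
  have s4 : s G 4 = 0 := by
    by_contra h
    obtain ⟨n, g1, -, g2, g3⟩ := sylow_pow (G := G) Nat.prime_two (k := 2) (dvd_card h) (by omega)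
    have g4 := g2 4 dvd_rfl
    have := hs' 4 (by norm_num)
    rw [show Nat.divisors (2 ^ 2) = {1, 2, 4} by decide, sum_insert (by simp), sum_pair (by simp),
      s_one] at g3
    rw [show s G 4 = 8 by omega, show Nat.totient 4 = 2 by decide] at g4
    have := Nat.le_of_dvd (by norm_num) g4
    obtain rfl : n = 3 := by omega
    norm_num at g4
  have h6 := card_eq_sum (G := G) (m := 2 ^ 1 * 3 ^ 1 * 5 ^ 0) (by norm_num) fun d hd =>
    dvd_of (by rintro rfl; exact hd s_zero)
      (fun p hp' h => (hp p hp' (h.trans (dvd_card hd))).imp_right Or.inl)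
      (fun h => hd (zero_of_dvd s4 h)) (fun h => hd (zero_of_dvd s9 h))
      fun h => by have := hp 5 Nat.prime_five (h.trans (dvd_card hd)); omega
  rw [show Nat.divisors (2 ^ 1 * 3 ^ 1 * 5 ^ 0) = {1, 2, 3, 6} by decide, sum_insert (by simp),
    sum_insert (by simp), sum_pair (by simp), s_one, s2] at h6
  obtain ⟨m, hm⟩ := h8
  have h7 := sum_le (G := G) {1, 2, m}
  have := three_le' hm (by norm_num) (by norm_num) (by omega)
  rw [sum_insert (by simp; omega), sum_pair (by omega), s_one, s2, hm] at h7
  have g3 := hs' 3 le_rfl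
  have g6 := hs' 6 (by norm_num)
  have h12 : Nat.card G = 12 := by
    by_contra h
    have := hp 5 Nat.prime_five (by omega)
    omega
  have := (prime_data (G := G) Nat.prime_three (by omega)).1
  refine S0228.result h12 fun z hz hc => ?_
  obtain ⟨x, hx⟩ := exists_of_ne this
  exact s_mul_ne_zero (by norm_num) hx hz (mem_center_iff.1 hc x) (show s G 6 = 0 by omega)

theorem alt5 (hs : ∀ m, s G m = 0 ∨ s G m = 1 ∨ s G m = 15 ∨ s G m = 20 ∨ s G m = 24)
    (h15 : ∃ m, s G m = 15) (h20 : ∃ m, s G m = 20) (h24 : ∃ m, s G m = 24) :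
    Nonempty (G ≃* alternatingGroup (Fin 5)) := by
  have s2 := eq_two h15 (by norm_num) (by norm_num)
  have hs' : ∀ m, 3 ≤ m → s G m = 0 ∨ s G m = 20 ∨ s G m = 24 := fun m hm => by
    have := hs m; have := s_ne_one (G := G) hm; have := two_dvd (G := G) hm; omega
  have hp' : ∀ p, p.Prime → p ∣ Nat.card G →
      p = 2 ∨ (p = 3 ∧ s G 3 = 20) ∨ (p = 5 ∧ s G 5 = 24) := fun p hp hd => by
    obtain ⟨g1, g2, g3⟩ := prime_data hp hd
    rcases hp.eq_two_or_odd' with rfl | h
    · exact Or.inl rfl
    rcases (hs' p (by have := hp.two_le; obtain ⟨k, rfl⟩ := h; omega)).resolve_left g1 with e | e <;>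
      rw [e] at g2 g3
    · rcases prime_eq (a := 3) (b := 7) hp g2 with rfl | rfl <;> simp_all
    · rcases prime_eq (a := 5) (b := 5) hp g2 with rfl | rfl <;> simp_all
  have hp : ∀ p, p.Prime → p ∣ Nat.card G → p = 2 ∨ p = 3 ∨ p = 5 := fun p h hd => by
    have := hp' p h hd; tauto
  have d2 : 2 ∣ Nat.card G := dvd_card (by omega)
  have s27 : s G 27 = 0 := by have := hs' 27 (by norm_num); have := tot (G := G) 27 18; omega
  have s9 : s G 9 = 0 := by
    by_contra h
    have d9 := dvd_card h
    have e9 : s G 9 = 24 := by have := hs' 9 (by norm_num); have := tot (G := G) 9 6; omega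
    have e3 := hp' 3 Nat.prime_three (by omega)
    obtain ⟨n, g1, -, g2, g3⟩ := sylow_pow (G := G) Nat.prime_three (k := 2) d9 fun h => by
      have := frob h
      rw [show Nat.divisors (3 ^ (2 + 1)) = {1, 3, 9, 27} by decide, sum_insert (by simp),
        sum_insert (by simp), sum_pair (by simp), s_one] at this
      omega
    have g4 := g2 9 dvd_rfl
    rw [show Nat.divisors (3 ^ 2) = {1, 3, 9} by decide, sum_insert (by simp), sum_pair (by simp),
      s_one] at g3
    rw [e9, show Nat.totient 9 = 6 by decide] at g4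
    have := Nat.le_of_dvd (by norm_num) g4
    omega
  have n9 : ¬ 3 ^ 2 ∣ Nat.card G := fun h => by
    have := pow_dvd (k := 1) Nat.prime_three s9 h
    have := hs' 3 le_rfl
    omega
  have n25 : ¬ 5 ^ 2 ∣ Nat.card G := fun h => by
    have e5 := hp' 5 Nat.prime_five (by omega)
    have g1 := frob h
    have g2 := frob (show 50 ∣ Nat.card G by omega)
    rw [show Nat.divisors (5 ^ 2) = {1, 5, 25} by decide, sum_insert (by simp), sum_pair (by simp),
      s_one] at g1
    rw [show Nat.divisors 50 = {1, 2, 5, 10, 25, 50} by decide, sum_insert (by simp),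
      sum_insert (by simp), sum_insert (by simp), sum_insert (by simp), sum_pair (by simp),
      s_one] at g2
    have s25 : s G 25 = 0 := by have := hs' 25 (by norm_num); omega
    have := zero_of_dvd s25 (show 25 ∣ 50 by norm_num)
    have := hs' 10 (by norm_num)
    omega
  obtain ⟨m, hm⟩ := h20
  obtain ⟨m', hm'⟩ := h24
  have h7 := sum_le (G := G) {1, 2, m, m'}
  have := three_le' hm (by norm_num) (by norm_num) (by omega)
  have := three_le' hm' (by norm_num) (by norm_num) (by omega)
  rw [sum_insert (by simp; omega), sum_insert (by simp; omega),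
    sum_pair (by rintro rfl; omega), s_one, s2, hm, hm'] at h7
  have d5 : 5 ∣ Nat.card G := by
    by_contra n5
    have n3 : ¬ 3 ∣ Nat.card G := fun d3 => by
      obtain ⟨n, g1, g2, g3, -⟩ := sylow_prime Nat.prime_three d3 n9
      have e3 := hp' 3 Nat.prime_three d3
      have g4 := g2 3 dvd_rfl
      rw [show s G 3 = 20 by omega, show Nat.totient 3 = 2 by decide] at g4
      have := Nat.le_of_dvd (by norm_num) g4
      have : 7 ≤ n := by omega
      have : n ≤ 10 := by omega
      interval_cases n <;> omega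
    have s32 : s G 32 = 0 := by have := hs' 32 (by norm_num); have := tot (G := G) 32 16; omega
    have hd : ∀ d, s G d ≠ 0 → d ∣ 2 ^ 4 * 3 ^ 0 * 5 ^ 0 := fun d hd =>
      dvd_of (by rintro rfl; exact hd s_zero) (fun p hp' h => hp p hp' (h.trans (dvd_card hd)))
        (fun h => hd (zero_of_dvd s32 h)) (fun h => n3 (h.trans (dvd_card hd)))
        fun h => n5 (h.trans (dvd_card hd))
    have h6 := card_eq_sum (G := G) (by norm_num) hd
    rw [show Nat.divisors (2 ^ 4 * 3 ^ 0 * 5 ^ 0) = {1, 2, 4, 8, 16} by decide, sum_insert (by simp),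
      sum_insert (by simp), sum_insert (by simp), sum_pair (by simp), s_one, s2] at h6
    have g4 := hs' 4 (by norm_num)
    have g8 := hs' 8 (by norm_num)
    have g16 := hs' 16 (by norm_num)
    have h8 := dvd_of (a := 6) (b := 0) (c := 0) Nat.card_pos.ne' hp
      (fun h => by have := Nat.le_of_dvd Nat.card_pos h; omega) n3 n5
    have h9 : Nat.card G = 64 := by
      obtain ⟨t, ht⟩ := h8
      rcases t with _ | _ | t
      · omega
      · omega
      · nlinarith
    have h10 := Nat.mem_divisors.2 ⟨hd m (by omega), by norm_num⟩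
    rw [show Nat.divisors (2 ^ 4 * 3 ^ 0 * 5 ^ 0) = {1, 2, 4, 8, 16} by decide] at h10
    simp only [mem_insert, mem_singleton] at h10
    rcases h10 with rfl | rfl | rfl | rfl | rfl <;> omega
  have e5 : s G 5 = 24 := by have := hp' 5 Nat.prime_five d5; omega
  obtain ⟨n, g1, g2, g3, g4⟩ := sylow_prime Nat.prime_five d5 n25
  have g5 := g2 5 dvd_rfl
  rw [e5, show Nat.totient 5 = 4 by decide] at g5
  obtain rfl : n = 6 := by
    have := Nat.le_of_dvd (by norm_num) g5
    have : 5 ≤ n := by omega
    have : n ≤ 6 := by omega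
    interval_cases n <;> omega
  have s10 : s G 10 = 0 := by
    have g6 := g2 10 (by norm_num)
    have g7 := frob (show 10 ∣ Nat.card G by omega)
    rw [show Nat.divisors 10 = {1, 2, 5, 10} by decide, sum_insert (by simp),
      sum_insert (by simp), sum_pair (by simp), s_one] at g7
    rw [show Nat.totient 10 = 4 by decide] at g6
    have := hs' 10 (by norm_num)
    omega
  have s15 : s G 15 = 0 := by
    have g6 := g2 15 (by norm_num)
    rw [show Nat.totient 15 = 8 by decide] at g6
    have := hs' 15 (by norm_num)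
    omega
  have g8 := g4 fun q hq hq5 => by
    by_contra h
    rcases hp q hq ((dvd_mul_left _ _).trans (dvd_card h)) with rfl | rfl | rfl <;> simp_all
  have e3 : s G 3 = 20 := by have := hp' 3 Nat.prime_three (by omega); omega
  have h60 : Nat.card G = 60 := by
    by_contra hne
    have h120 : Nat.card G = 120 := by
      obtain ⟨t, ht⟩ := g8
      rcases t with _ | _ | _ | t
      · omega
      · omega
      · omega
      · nlinarith
    have s8 : s G 8 = 0 := by
      by_contra h
      obtain ⟨n, g1, -, g2, g3⟩ := sylow_pow (G := G) Nat.prime_two (k := 3) (by omega) (by omega)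
      have g4 := g2 8 dvd_rfl
      have := hs' 8 (by norm_num)
      have := hs' 4 (by norm_num)
      have : s G 4 ≠ 0 := fun h' => h (zero_of_dvd h' (by norm_num))
      rw [show Nat.divisors (2 ^ 3) = {1, 2, 4, 8} by decide, sum_insert (by simp),
        sum_insert (by simp), sum_pair (by simp), s_one] at g3
      rw [show Nat.totient 8 = 4 by decide] at g4
      have := Nat.le_of_dvd (by omega) g4
      omega
    have g7 := frob (show 8 ∣ Nat.card G by omega)
    rw [show Nat.divisors 8 = {1, 2, 4, 8} by decide, sum_insert (by simp),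
      sum_insert (by simp), sum_pair (by simp), s_one] at g7
    have h6 := card_eq_sum (G := G) (m := 60) (by norm_num) fun d hd =>
      dvd_of (a := 2) (b := 1) (c := 1) (by rintro rfl; exact hd s_zero)
        (fun p hp' h => hp p hp' (h.trans (dvd_card hd))) (fun h => hd (zero_of_dvd s8 h))
        (fun h => n9 (h.trans (dvd_card hd))) fun h => n25 (h.trans (dvd_card hd))
    rw [show Nat.divisors 60 = {1, 2, 3, 4, 5, 6, 10, 12, 15, 20, 30, 60} by decide] at h6
    repeat rw [sum_insert (by simp)] at h6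
    rw [sum_singleton, s_one, s10, s15, zero_of_dvd s10 (show 10 ∣ 20 by norm_num),
      zero_of_dvd s10 (show 10 ∣ 30 by norm_num), zero_of_dvd s10 (show 10 ∣ 60 by norm_num)] at h6
    have := hs' 4 (by norm_num)
    have := hs' 6 (by norm_num)
    have := hs' 12 (by norm_num)
    have g9 := frob (show 6 ∣ Nat.card G by omega)
    rw [show Nat.divisors 6 = {1, 2, 3, 6} by decide, sum_insert (by simp),
      sum_insert (by simp), sum_pair (by simp), s_one] at g9
    omega
  have := simple_of (n := 6) hp (by omega) (by omega) n25 h60 e5 (by norm_num) s10 s15 (by omega)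
  exact S0494.result h60

end Cfsg.Agent.Nse
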