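import Mathlib
import Cfsg.Agent.Nse.B

/-!
# Recognition of the alternating group of degree six by the numbers of elements of each order
-/

set_option autoImplicit false

namespace Cfsg.Agent.Nse

open Subgroup Finset H23.SameOrd H23.SameOrd3 H23.Kul

variable {G : Type*} [Group G] [Finite G] {p m : ℕ}

section Six

variable (s2 : s G 2 = 45) (hs : ∀ m, 3 ≤ m → s G m = 0 ∨ s G m = 80 ∨ s G m = 90 ∨ s G m = 144)
include hs

theorem six_prime' (hp : p.Prime) (hd : p ∣ Nat.card G) :
    p = 2 ∨ (p = 3 ∧ s G 3 = 80) ∨ (p = 5 ∧ s G 5 = 144) ∨ (p = 7 ∧ s G 7 = 90) := by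
  obtain ⟨g1, g2, g3⟩ := prime_data hp hd
  rcases hp.eq_two_or_odd' with rfl | h
  · exact Or.inl rfl
  rcases (hs p (by have := hp.two_le; obtain ⟨k, rfl⟩ := h; omega)).resolve_left g1 with
    e | e | e <;> rw [e] at g2 g3
  · obtain rfl := (Nat.prime_dvd_prime_iff_eq hp Nat.prime_three).1
      (hp.dvd_of_dvd_pow (show p ∣ 3 ^ 4 from g2))
    simp_all
  · rcases prime_eq (a := 7) (b := 13) hp g2 with rfl | rfl <;> simp_all
  · rcases prime_eq (a := 5) (b := 29) hp g2 with rfl | rfl <;> simp_all

theorem six_prime (hp : p.Prime) (hd : p ∣ Nat.card G) : p = 2 ∨ p = 3 ∨ p = 5 := by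
  suffices h : ¬ 7 ∣ Nat.card G by
    rcases six_prime' hs hp hd with h | h | h | ⟨rfl, -⟩ <;> tauto
  intro d7
  have p7 : Nat.Prime 7 := by norm_num
  have e7 : s G 7 = 90 := by have := six_prime' hs p7 d7; omega
  have s49 : s G 49 = 0 := by have := hs 49 (by norm_num); have := tot (G := G) 49 42; omega
  obtain ⟨n, g1, g2, g3, -⟩ := sylow_prime p7 d7 fun h => by
    have := pow_dvd (k := 1) p7 s49 h
    omega
  have g4 := g2 7 dvd_rfl
  rw [e7, show Nat.totient 7 = 6 by decide] at g4
  obtain rfl : n = 15 := by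
    have := Nat.le_of_dvd (by norm_num) g4
    have : 13 ≤ n := by omega
    have : n ≤ 15 := by omega
    interval_cases n <;> omega
  have e5 := six_prime' hs Nat.prime_five (by omega)
  have g5 := frob (show 35 ∣ Nat.card G by omega)
  rw [show Nat.divisors 35 = {1, 5, 7, 35} by decide, sum_insert (by simp),
    sum_insert (by simp), sum_pair (by simp), s_one] at g5
  have := hs 35 (by norm_num)
  have := tot (G := G) 35 24
  omega

theorem six_nine : s G 9 = 0 := by
  by_contra h
  have d9 := dvd_card h
  have e3 := six_prime' hs Nat.prime_three (by omega)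
  have e9 := hs 9 (by norm_num)
  have t9 := tot (G := G) 9 6
  obtain ⟨n, g1, -, g2, g3⟩ := sylow_pow (G := G) Nat.prime_three (k := 2) d9 fun h => by
    have := frob h
    rw [show Nat.divisors (3 ^ (2 + 1)) = {1, 3, 9, 27} by decide, sum_insert (by simp),
      sum_insert (by simp), sum_pair (by simp), s_one] at this
    have := hs 27 (by norm_num)
    omega
  have g4 := g2 9 dvd_rfl
  rw [show Nat.divisors (3 ^ 2) = {1, 3, 9} by decide, sum_insert (by simp), sum_pair (by simp),
    s_one] at g3
  rw [show Nat.totient 9 = 6 by decide] at g4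
  have := Nat.le_of_dvd (by omega) g4
  omega

theorem six_25 : ¬ 5 ^ 2 ∣ Nat.card G := fun d25 => by
  have e5 := six_prime' hs Nat.prime_five (by omega)
  by_cases h : s G 25 = 0
  · have := pow_dvd (k := 1) Nat.prime_five h d25
    omega
  have e25 : s G 25 = 80 := by have := hs 25 (by norm_num); have := tot (G := G) 25 20; omega
  obtain ⟨n, g1, -, g2, g3⟩ := sylow_pow (G := G) Nat.prime_five (k := 2) d25 fun h => by
    have := frob h
    rw [show Nat.divisors (5 ^ (2 + 1)) = {1, 5, 25, 125} by decide +kernel, sum_insert (by simp),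
      sum_insert (by simp), sum_pair (by simp), s_one] at this
    have := hs 125 (by norm_num)
    have := tot (G := G) 125 100 (by decide +kernel)
    omega
  have g4 := g2 25 dvd_rfl
  rw [show Nat.divisors (5 ^ 2) = {1, 5, 25} by decide, sum_insert (by simp), sum_pair (by simp),
    s_one] at g3
  rw [e25, show Nat.totient 25 = 20 by decide] at g4
  have := Nat.le_of_dvd (by omega) g4
  omega

theorem six_dvd {d : ℕ} (h : d ∉ ({1, 2, 4, 6} : Finset ℕ)) : 16 ∣ s G d := by
  by_cases h0 : s G d = 0
  · simp [h0]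
  have hd := dvd_card h0
  have h3 : 3 ≤ d := by
    rcases d with _ | d
    · exact absurd s_zero h0
    · simp at h; omega
  have key : ∀ e, e ∣ d → 4 ∣ e.totient → 16 ∣ s G d := fun e he h4 => by
    have := h4.trans ((Nat.totient_dvd_of_dvd he).trans (tot_dvd (G := G) d))
    have := hs d h3
    omega
  by_cases h5 : 5 ∣ d
  · exact key 5 h5 (by decide)
  by_cases h8 : 8 ∣ d
  · exact key 8 h8 (by decide)
  have h12 := Nat.mem_divisors.2 ⟨dvd_of (a := 2) (b := 1) (c := 0) (by omega)
    (fun p hp h => six_prime hs hp (h.trans hd)) h8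
    (fun h => h0 (zero_of_dvd (six_nine hs) h)) h5, by norm_num⟩
  rw [show Nat.divisors (2 ^ 2 * 3 ^ 1 * 5 ^ 0) = {1, 2, 3, 4, 6, 12} by decide] at h12
  simp only [mem_insert, mem_singleton] at h12 h
  rcases h12 with rfl | rfl | rfl | rfl | rfl | rfl
  · omega
  · omega
  · have := six_prime' hs Nat.prime_three hd; omega
  · omega
  · omega
  · exact key 12 dvd_rfl (by decide)

include s2

theorem six_mod (h90 : ∃ m, s G m = 90) : Nat.card G % 16 = 8 := by
  have h := modEq_sum (G := G) {1, 2, 4, 6} (k := 16) fun d hd => six_dvd hs hd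
  rw [sum_insert (by simp), sum_insert (by simp), sum_pair (by simp), s_one, s2, Nat.ModEq] at h
  have g4 := hs 4 (by norm_num)
  have g6 := hs 6 (by norm_num)
  have d4 : s G 4 ≠ 0 → 4 ∣ Nat.card G := dvd_card
  obtain ⟨m, hm⟩ := h90
  have h1 : m ∈ ({1, 2, 4, 6} : Finset ℕ) := by
    by_contra h'
    have := six_dvd hs h'
    omega
  have := s_one (G := G)
  simp only [mem_insert, mem_singleton] at h1
  rcases h1 with rfl | rfl | rfl | rfl <;> omega

end Six

theorem alt6 (hs : ∀ m, s G m = 0 ∨ s G m = 1 ∨ s G m = 45 ∨ s G m = 80 ∨ s G m = 90 ∨ s G m = 144)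
    (h45 : ∃ m, s G m = 45) (h80 : ∃ m, s G m = 80) (h90 : ∃ m, s G m = 90)
    (h144 : ∃ m, s G m = 144) : Nonempty (G ≃* alternatingGroup (Fin 6)) := by
  have s2 := eq_two h45 (by norm_num) (by norm_num)
  have hs' : ∀ m, 3 ≤ m → s G m = 0 ∨ s G m = 80 ∨ s G m = 90 ∨ s G m = 144 := fun m hm => by
    have := hs m; have := s_ne_one (G := G) hm; have := two_dvd (G := G) hm; omega
  have hp := fun p => six_prime (p := p) hs'
  have hN := six_mod s2 hs' h90
  have s9 := six_nine hs'
  have n25 := six_25 hs'
  have n243 : ¬ 3 ^ (4 + 1) ∣ Nat.card G := fun h => by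
    have h1 := pow_dvd (k := 4) Nat.prime_three s9 h
    rcases hs' 3 le_rfl with e | e | e | e <;> rw [e] at h1 <;> norm_num at h1
  obtain ⟨m, hm⟩ := h80
  obtain ⟨m', hm'⟩ := h90
  obtain ⟨m'', hm''⟩ := h144
  have h7 := sum_le (G := G) {1, 2, m, m', m''}
  have := three_le' hm (by norm_num) (by norm_num) (by omega)
  have := three_le' hm' (by norm_num) (by norm_num) (by omega)
  have := three_le' hm'' (by norm_num) (by norm_num) (by omega)
  have : m ≠ m' := by rintro rfl; omega
  have : m ≠ m'' := by rintro rfl; omega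
  rw [sum_insert (by simp; omega), sum_insert (by simp; omega), sum_insert (by simp; omega),
    sum_pair (by rintro rfl; omega), s_one, s2, hm, hm', hm''] at h7
  have d5 : 5 ∣ Nat.card G := by
    by_contra n5
    have g7 := frob (show 8 ∣ Nat.card G by omega)
    rw [show Nat.divisors 8 = {1, 2, 4, 8} by decide, sum_insert (by simp),
      sum_insert (by simp), sum_pair (by simp), s_one] at g7
    have g8 := six_dvd hs' (d := 8) (by simp)
    have g4 := hs' 4 (by norm_num)
    have s8 : s G 8 = 0 := by
      by_contra h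
      obtain ⟨n, g1, -, g2, g3⟩ := sylow_pow (G := G) Nat.prime_two (k := 3) (by omega) (by omega)
      have g4 := g2 8 dvd_rfl
      have := hs' 8 (by norm_num)
      rw [show Nat.divisors (2 ^ 3) = {1, 2, 4, 8} by decide, sum_insert (by simp),
        sum_insert (by simp), sum_pair (by simp), s_one] at g3
      rw [show Nat.totient 8 = 4 by decide] at g4
      have := Nat.le_of_dvd (by omega) g4
      obtain rfl : n = 35 := by omega
      omega
    have h6 := card_eq_sum (G := G) (m := 12) (by norm_num) fun d hd =>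
      dvd_of (a := 2) (b := 1) (c := 0) (by rintro rfl; exact hd s_zero)
        (fun p hp' h => hp p hp' (h.trans (dvd_card hd))) (fun h => hd (zero_of_dvd s8 h))
        (fun h => hd (zero_of_dvd s9 h)) fun h => n5 (h.trans (dvd_card hd))
    rw [show Nat.divisors 12 = {1, 2, 3, 4, 6, 12} by decide] at h6
    repeat rw [sum_insert (by simp)] at h6
    rw [sum_singleton, s_one] at h6
    have := hs' 3 (by norm_num)
    have := hs' 6 (by norm_num)
    have := hs' 12 (by norm_num)
    have h8 := dvd_of (a := 3) (b := 4) (c := 0) Nat.card_pos.ne' hp (by omega)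
      n243 n5
    obtain ⟨t, ht⟩ := h8
    norm_num at ht
    rcases t with _ | _ | t
    · omega
    · omega
    · have := Nat.mul_le_mul h7 (show 2 ≤ t + 1 + 1 by omega)
      omega
  have e5 : s G 5 = 144 := by have := six_prime' hs' Nat.prime_five d5; omega
  obtain ⟨n, g1, g2, g3, g4⟩ := sylow_prime Nat.prime_five d5 n25
  have g5 := g2 5 dvd_rfl
  rw [e5, show Nat.totient 5 = 4 by decide] at g5
  obtain rfl : n = 36 := by
    have := Nat.le_of_dvd (by norm_num) g5
    have : 29 ≤ n := by omega
    have : n ≤ 36 := by omega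
    interval_cases n <;> omega
  have s10 : s G 10 = 0 := by
    have g6 := g2 10 (by norm_num)
    have g7 := frob (show 10 ∣ Nat.card G by omega)
    rw [show Nat.divisors 10 = {1, 2, 5, 10} by decide, sum_insert (by simp),
      sum_insert (by simp), sum_pair (by simp), s_one] at g7
    rw [show Nat.totient 10 = 4 by decide] at g6
    have := hs' 10 (by norm_num)
    omega
  have s15 : s G 15 = 0 := by
    have g6 := g2 15 (by norm_num)
    rw [show Nat.totient 15 = 8 by decide] at g6
    have := hs' 15 (by norm_num)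
    omega
  have g8 := g4 fun q hq hq5 => by
    by_contra h
    rcases hp q hq ((dvd_mul_left _ _).trans (dvd_card h)) with rfl | rfl | rfl <;> simp_all
  have e3 : s G 3 = 80 := by have := six_prime' hs' Nat.prime_three (by omega); omega
  have h360 : Nat.card G = 360 := by
    obtain ⟨t, ht⟩ := g8
    rcases t with _ | _ | _ | t
    · omega
    · omega
    · omega
    · have := Nat.mul_le_mul h7 (show 3 ≤ t + 1 + 1 + 1 by omega)
      omega
  have := simple_of (n := 36) hp (by omega) (by omega) n25 h360 e5 (by norm_num) s10 s15 (by omega)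
  exact S0497.result h360

end Cfsg.Agent.Nse
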