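import Mathlib
import Cfsg.Agent.Nse.C

/-!
# The numbers of elements of each order in small alternating groups
-/

set_option autoImplicit false

namespace Cfsg.Agent.Nse

open Subgroup Finset H23.SameOrd H23.SameOrd3 H23.Kul

variable {G A : Type*} [Group G] [Finite G] [Group A] [Finite A]

theorem sum_eq' {A : Type*} [Group A] [Fintype A] [DecidableEq A] {m : ℕ} (hm : m ≠ 0) :
    ∑ d ∈ m.divisors, s A d = #{g : A | g ^ m = 1} := by
  rw [sum_eq hm, ← Set.ncard_coe_finset]
  congr 1; ext; simp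

theorem zero_of_sum {T : Finset ℕ} (h : ∑ d ∈ T, s A d = Nat.card A) {m : ℕ} (hm : m ∉ T) :
    s A m = 0 := by
  have := sum_le (G := A) (insert m T)
  rw [sum_insert hm] at this
  omega

theorem transfer
    (h : ((fun m : ℕ => Nat.card {g : G // orderOf g = m}) '' Set.range (orderOf : G → ℕ)) =
      ((fun m : ℕ => Nat.card {g : A // orderOf g = m}) '' Set.range (orderOf : A → ℕ))) :
    (∀ m, s G m = 0 ∨ ∃ m', s G m = s A m') ∧ ∀ m' v, s A m' = v → v ≠ 0 → ∃ m, s G m = v := by
  refine ⟨fun m => ?_, fun m' v e hv => ?_⟩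
  · by_cases h0 : s G m = 0
    · exact Or.inl h0
    obtain ⟨m', -, e⟩ := h.le ⟨m, exists_of_ne h0, rfl⟩
    exact Or.inr ⟨m', e.symm⟩
  · obtain ⟨m, -, e'⟩ := h.ge ⟨m', exists_of_ne (e ▸ hv), rfl⟩
    exact ⟨m, e'.trans e⟩

theorem div2 : ∑ d ∈ Nat.divisors 2, s A d = 1 + s A 2 := by
  rw [Nat.prime_two.sum_divisors, s_one, add_comm]

theorem div3 : ∑ d ∈ Nat.divisors 3, s A d = 1 + s A 3 := by
  rw [Nat.prime_three.sum_divisors, s_one, add_comm]

theorem div5 : ∑ d ∈ Nat.divisors 5, s A d = 1 + s A 5 := by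
  rw [Nat.prime_five.sum_divisors, s_one, add_comm]

theorem div4 : ∑ d ∈ Nat.divisors 4, s A d = 1 + (s A 2 + s A 4) := by
  rw [show Nat.divisors 4 = {1, 2, 4} by decide, sum_insert (by simp), sum_pair (by simp), s_one]

set_option maxRecDepth 100000 in
theorem cnt4 : #{g : alternatingGroup (Fin 4) | g ^ 2 = 1} = 4 ∧
    #{g : alternatingGroup (Fin 4) | g ^ 3 = 1} = 9 := by decide +kernel

set_option maxRecDepth 100000 in
theorem cnt5 : #{g : alternatingGroup (Fin 5) | g ^ 2 = 1} = 16 ∧
    #{g : alternatingGroup (Fin 5) | g ^ 3 = 1} = 21 ∧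
    #{g : alternatingGroup (Fin 5) | g ^ 5 = 1} = 25 := by decide +kernel

set_option maxRecDepth 100000 in
theorem cnt6 : #{g : alternatingGroup (Fin 6) | g ^ 2 = 1} = 46 ∧
    #{g : alternatingGroup (Fin 6) | g ^ 3 = 1} = 81 ∧
    #{g : alternatingGroup (Fin 6) | g ^ 4 = 1} = 136 ∧
    #{g : alternatingGroup (Fin 6) | g ^ 5 = 1} = 145 := by decide +kernel

theorem card_alt (n : ℕ) : Nat.card (alternatingGroup (Fin (n + 2))) = (n + 2).factorial / 2 := by
  rw [nat_card_alternatingGroup, Nat.card_eq_fintype_card, Fintype.card_fin]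

theorem main (n : ℕ) (hn : n = 4 ∨ n = 5 ∨ n = 6)
    (h : ((fun m : ℕ => Nat.card {g : G // orderOf g = m}) '' Set.range (orderOf : G → ℕ)) =
      ((fun m : ℕ => Nat.card {g : ↥(alternatingGroup (Fin n)) // orderOf g = m}) ''
        Set.range (orderOf : ↥(alternatingGroup (Fin n)) → ℕ))) :
    Nonempty (G ≃* ↥(alternatingGroup (Fin n))) := by
  obtain ⟨h1, h2⟩ := transfer h
  rcases hn with rfl | rfl | rfl
  · obtain ⟨e2, e3⟩ := cnt4
    rw [← sum_eq' (by norm_num), div2] at e2
    rw [← sum_eq' (by norm_num), div3] at e3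
    have e1 := s_one (G := alternatingGroup (Fin 4))
    have e0 := fun m => zero_of_sum (A := alternatingGroup (Fin 4)) (T := {1, 2, 3}) (m := m) (by
      rw [sum_insert (by simp), sum_pair (by simp), card_alt 2, show Nat.factorial (2 + 2) / 2 = 12 by decide]
      omega)
    refine alt4 (fun m => ?_) (h2 2 _ (by omega) (by norm_num)) (h2 3 _ (by omega) (by norm_num))
    refine (h1 m).elim Or.inl fun ⟨m', e⟩ => ?_
    have := e0 m'
    simp only [mem_insert, mem_singleton] at this
    by_cases h' : m' = 1 ∨ m' = 2 ∨ m' = 3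
    · rcases h' with rfl | rfl | rfl <;> omega
    · have := this h'; omega
  · obtain ⟨e2, e3, e5⟩ := cnt5
    rw [← sum_eq' (by norm_num), div2] at e2
    rw [← sum_eq' (by norm_num), div3] at e3
    rw [← sum_eq' (by norm_num), div5] at e5
    have e1 := s_one (G := alternatingGroup (Fin 5))
    have e0 := fun m => zero_of_sum (A := alternatingGroup (Fin 5)) (T := {1, 2, 3, 5}) (m := m) (by
      rw [sum_insert (by simp), sum_insert (by simp), sum_pair (by simp), card_alt 3,
        show Nat.factorial (3 + 2) / 2 = 60 by decide]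
      omega)
    refine alt5 (fun m => ?_) (h2 2 _ (by omega) (by norm_num)) (h2 3 _ (by omega) (by norm_num))
      (h2 5 _ (by omega) (by norm_num))
    refine (h1 m).elim Or.inl fun ⟨m', e⟩ => ?_
    have := e0 m'
    simp only [mem_insert, mem_singleton] at this
    by_cases h' : m' = 1 ∨ m' = 2 ∨ m' = 3 ∨ m' = 5
    · rcases h' with rfl | rfl | rfl | rfl <;> omega
    · have := this h'; omega
  · obtain ⟨e2, e3, e4, e5⟩ := cnt6
    rw [← sum_eq' (by norm_num), div2] at e2
    rw [← sum_eq' (by norm_num), div3] at e3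
    rw [← sum_eq' (by norm_num), div4] at e4
    rw [← sum_eq' (by norm_num), div5] at e5
    have e1 := s_one (G := alternatingGroup (Fin 6))
    have e0 := fun m => zero_of_sum (A := alternatingGroup (Fin 6)) (T := {1, 2, 3, 4, 5}) (m := m) (by
      rw [sum_insert (by simp), sum_insert (by simp), sum_insert (by simp), sum_pair (by simp),
        card_alt 4, show Nat.factorial (4 + 2) / 2 = 360 by decide]
      omega)
    refine alt6 (fun m => ?_) (h2 2 _ (by omega) (by norm_num)) (h2 3 _ (by omega) (by norm_num))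
      (h2 4 _ (by omega) (by norm_num)) (h2 5 _ (by omega) (by norm_num))
    refine (h1 m).elim Or.inl fun ⟨m', e⟩ => ?_
    have := e0 m'
    simp only [mem_insert, mem_singleton] at this
    by_cases h' : m' = 1 ∨ m' = 2 ∨ m' = 3 ∨ m' = 4 ∨ m' = 5
    · rcases h' with rfl | rfl | rfl | rfl | rfl <;> omega
    · have := this h'; omega

end Cfsg.Agent.Nse
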